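import Groth.Agent.Misc15.RetractLift.Density

/-!
The coordinate ring of a torus over a field: base change to a splitting field is a group algebra.
-/

set_option autoImplicit false
set_option linter.style.haveILetI false

universe u

open CategoryTheory MonoidalCategory CartesianMonoidalCategory MonObj AlgebraicGeometry TensorProduct
open Groth.Misc15.TorusDvr Groth.Misc15.RetractLift

noncomputable section

namespace Groth.Misc15.RetractDvr

variable {k : Type u} [Field k] {T : Over (Spec (CommRingCat.of k))}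

/-- The structure map of the functions on an affine scheme over a field. -/
def strHom [IsAffine T.left] : k →+* Γ(T.left, ⊤) := (Spec.preimage (T.left.isoSpec.inv ≫ T.hom)).hom

theorem ptHom_strHom [IsAffine T.left] {S : Type u} [CommRing S] {c : k →+* S} (x : sp c ⟶ T) :
    (ptHom x).comp strHom = c := by
  suffices h : CommRingCat.ofHom strHom ≫ CommRingCat.ofHom (ptHom x) = CommRingCat.ofHom c from
    CommRingCat.hom_ext_iff.1 h
  apply Spec.map_injective
  rw [Spec.map_comp, specMap_ptHom]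
  show ((x.left : Spec (CommRingCat.of S) ⟶ T.left) ≫ T.left.isoSpec.hom) ≫
    Spec.map (CommRingCat.ofHom (Spec.preimage (T.left.isoSpec.inv ≫ T.hom)).hom) = _
  rw [CommRingCat.ofHom_hom, Spec.map_preimage, Category.assoc, Iso.hom_inv_id_assoc]
  exact Over.w x

/-- A homomorphism gives a point. -/
theorem exists_pt [IsAffine T.left] {S : Type u} [CommRing S] {c : k →+* S} (φ : Γ(T.left, ⊤) →+* S)
    (h : φ.comp strHom = c) : ∃ x : sp c ⟶ T, ptHom x = φ := by
  refine ⟨Over.homMk (Spec.map (CommRingCat.ofHom φ) ≫ T.left.isoSpec.inv) ?_, ?_⟩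
  · show (Spec.map (CommRingCat.ofHom φ) ≫ T.left.isoSpec.inv) ≫ T.hom = Spec.map (CommRingCat.ofHom c)
    rw [Category.assoc, ← Spec.map_preimage (T.left.isoSpec.inv ≫ T.hom), ← Spec.map_comp, ← h]
    rfl
  · suffices h2 : CommRingCat.ofHom (ptHom (Over.homMk (Spec.map (CommRingCat.ofHom φ) ≫ T.left.isoSpec.inv) _ :
        sp c ⟶ T)) = CommRingCat.ofHom φ from CommRingCat.hom_ext_iff.1 h2
    apply Spec.map_injective
    rw [specMap_ptHom]
    simp

theorem pt_ext [IsAffine T.left] {S : Type u} [CommRing S] {c : k →+* S} {x y : sp c ⟶ T}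
    (h : ptHom x = ptHom y) : x = y := by
  refine Over.OverMorphism.ext ?_
  rw [← cancel_mono T.left.isoSpec.hom]
  exact ((specMap_ptHom x).symm.trans (by rw [h])).trans (specMap_ptHom y)

variable [GrpObj T] [IsAffine T.left] {E : Type u} [Field E] [Algebra k E]
  (τ : Groth.Reductive.MTInt.Triv T (sp (algebraMap k E)))

/-- The functions on the group are a twisted form of the group algebra. -/
theorem exists_coord_equiv [Algebra k Γ(T.left, ⊤)] (hO : algebraMap k Γ(T.left, ⊤) = strHom) :
    ∃ e : E ⊗[k] Γ(T.left, ⊤) ≃+* CoordRing τ,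
      (∀ a : E, e (a ⊗ₜ 1) = const τ a) ∧ ∀ o, e (1 ⊗ₜ o) = ptHom (univPt τ) o := by
  let c₀ := (const τ).comp (algebraMap k E)
  have hc₀ : algebraMap k (CoordRing τ) = c₀ := RingHom.ext fun r => by
    simp [c₀, const, MonoidAlgebra.coe_algebraMap]
  let hUa : Γ(T.left, ⊤) →ₐ[k] CoordRing τ := AlgHom.mk (ptHom (univPt τ)) fun r => by
    show ptHom (univPt τ) (algebraMap k Γ(T.left, ⊤) r) = _
    rw [RingHom.congr_fun hc₀ r]
    rw [hO]
    exact RingHom.congr_fun (ptHom_strHom (univPt τ)) r
  let cEa : E →ₐ[k] CoordRing τ := AlgHom.mk (const τ) fun r => (RingHom.congr_fun hc₀ r).symm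
  let Λ : E ⊗[k] Γ(T.left, ⊤) →ₐ[k] CoordRing τ :=
    Algebra.TensorProduct.lift cEa hUa fun _ _ => Commute.all _ _
  have hΛl : ∀ a, Λ (a ⊗ₜ 1) = const τ a := fun a => by
    show Algebra.TensorProduct.lift cEa hUa _ (a ⊗ₜ 1) = _
    rw [Algebra.TensorProduct.lift_tmul, map_one, _root_.mul_one]
    rfl
  have hΛr : ∀ o, Λ ((1 : E) ⊗ₜ o) = ptHom (univPt τ) o := fun o => by
    show Algebra.TensorProduct.lift cEa hUa _ ((1 : E) ⊗ₜ o) = _
    rw [Algebra.TensorProduct.lift_tmul, map_one, _root_.one_mul]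
    rfl
  let S := E ⊗[k] Γ(T.left, ⊤)
  let β : E →+* S := Algebra.TensorProduct.includeLeftRingHom
  let iR : Γ(T.left, ⊤) →ₐ[k] S := Algebra.TensorProduct.includeRight
  have hβ : β.comp (algebraMap k E) = algebraMap k S := rfl
  obtain ⟨x, hx⟩ := exists_pt (c := algebraMap k S) (iR : Γ(T.left, ⊤) →+* S) (by
    rw [← hO]; exact iR.comp_algebraMap)
  let ev : CoordRing τ →+* S :=
    MonoidAlgebra.liftNCRingHom β (Φ τ β _ hβ x) fun _ _ => Commute.all _ _
  have hev : ∀ o, ev (ptHom (univPt τ) o) = iR o := fun o => by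
    rw [← ptHom_eq_eval τ β _ hβ x o, hx]
    rfl
  have hevc : ∀ a, ev (const τ a) = β a := fun a => by
    show MonoidAlgebra.liftNC _ _ (MonoidAlgebra.single 1 a) = _
    rw [MonoidAlgebra.liftNC_single, map_one, _root_.mul_one]
    rfl
  have h1 : ∀ z, ev (Λ z) = z := fun z => by
    induction z using TensorProduct.induction_on with
    | zero => simp
    | tmul a o =>
      rw [show a ⊗ₜ[k] o = (a ⊗ₜ 1) * ((1 : E) ⊗ₜ o) by simp, map_mul, map_mul, hΛl, hΛr, hev, hevc]
      rfl
    | add p q hp hq => simp only [map_add, hp, hq]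
  have h2 : ∀ z, Λ (ev z) = z := by
    have hΛβ : (Λ : S →+* CoordRing τ).comp β = const τ := RingHom.ext hΛl
    have hx' : spMap (Λ : S →+* CoordRing τ) _ c₀ (Λ.comp_algebraMap.trans hc₀) ≫ x = univPt τ := pt_ext (by
      rw [ptHom_spMap, hx]
      exact RingHom.ext hΛr)
    have hm := Φ_map τ (Λ : S →+* CoordRing τ) β _ c₀ hβ (Λ.comp_algebraMap.trans hc₀) x
    simp only [hΛβ] at hm
    have hx'' := congrArg (Φ τ (const τ) c₀ rfl) hx'
    have hu : Φ τ (const τ) c₀ rfl (univPt τ) = MonoidAlgebra.of E (Multiplicative τ.M) :=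
      MulEquiv.apply_symm_apply _ _
    replace hm := (hu.symm.trans hx''.symm).trans hm
    intro z
    induction z using MonoidAlgebra.induction_on with
    | of m =>
      show Λ (MonoidAlgebra.liftNC _ _ (MonoidAlgebra.single m 1)) = _
      rw [MonoidAlgebra.liftNC_single]
      show Λ (β 1 * Φ τ β _ hβ x m) = _
      rw [map_one, _root_.one_mul]
      exact (DFunLike.congr_fun hm m).symm
    | add p q hp hq => simp only [map_add, hp, hq]
    | smul r p hp =>
      rw [show r • p = const τ r * p by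
        rw [Algebra.smul_def]; rfl, map_mul, map_mul, hevc, hp]
      exact congrArg (· * p) (hΛl r)
  exact ⟨RingEquiv.ofBijective (Λ : S →+* CoordRing τ)
    ⟨Function.LeftInverse.injective h1, Function.RightInverse.surjective h2⟩, hΛl, hΛr⟩

end Groth.Misc15.RetractDvr
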