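import Groth.Agent.Misc15.RetractDvr.Model

/-!
A hypersurface with prescribed separably generated function field.
-/

set_option autoImplicit false
set_option linter.style.haveILetI false

universe u

noncomputable section

namespace Groth.Misc15.RetractDvr

variable {k : Type u} [Field k]

/-- A prime of a polynomial ring over a factorial domain without constants is principal. -/
theorem exists_eq_span_of_prime {R L : Type u} [CommRing R] [IsDomain R] [UniqueFactorizationMonoid R]
    [Field L] [Algebra R L] (hinj : Function.Injective (algebraMap R L)) (θ : L) {f : Polynomial R}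
    (hf0 : f ≠ 0) (hf : Polynomial.aeval θ f = 0) :
    ∃ g : Polynomial R, g ≠ 0 ∧ RingHom.ker (Polynomial.aeval (R := R) θ) = Ideal.span {g} := by
  classical
  set Q := RingHom.ker (Polynomial.aeval (R := R) θ) with hQ
  haveI : Q.IsPrime := RingHom.ker_isPrime _
  obtain ⟨g, hgQ, hg⟩ := (inferInstance : Q.IsPrime).exists_mem_prime_of_ne_bot
    (fun h => hf0 (Ideal.mem_bot.1 (h ▸ (show f ∈ Q from hf))))
  have hgθ : Polynomial.aeval θ g = 0 := hgQ
  have hdeg : g.natDegree ≠ 0 := fun h => by
    rw [Polynomial.eq_C_of_natDegree_eq_zero h, Polynomial.aeval_C, map_eq_zero_iff _ hinj] at hgθ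
    exact hg.ne_zero (by rw [Polynomial.eq_C_of_natDegree_eq_zero h, hgθ, map_zero])
  have hprim : g.IsPrimitive := hg.irreducible.isPrimitive hdeg
  haveI := (faithfulSMul_iff_algebraMap_injective R L).2 hinj
  letI := FractionRing.liftAlgebra R L
  haveI : IsScalarTower R (FractionRing R) L := FractionRing.isScalarTower_liftAlgebra R L
  have hirr : Irreducible (g.map (algebraMap R (FractionRing R))) :=
    hprim.irreducible_iff_irreducible_map_fraction_map.1 hg.irreducible
  refine ⟨g, hg.ne_zero, le_antisymm (fun q hq => ?_) ((Ideal.span_singleton_le_iff_mem _).2 hgQ)⟩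
  rw [Ideal.mem_span_singleton]
  have hq0 : Polynomial.aeval θ q = 0 := hq
  refine hprim.dvd_of_fraction_map_dvd_fraction_map (K := FractionRing R) ?_
  by_contra hnd
  obtain ⟨a, b, hab⟩ := (hirr.coprime_iff_not_dvd).2 hnd
  have := congrArg (Polynomial.aeval θ) hab
  rw [map_add, map_mul, map_mul, map_one, Polynomial.aeval_map_algebraMap,
    Polynomial.aeval_map_algebraMap, hgθ, hq0, mul_zero, mul_zero, add_zero] at this
  exact zero_ne_one this

open IntermediateField in
/-- A separably generated field is the function field of a hypersurface in affine space. -/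
theorem exists_model {L : Type u} [Field L] [Algebra k L] [Algebra.EssFiniteType k L] (s : Finset L)
    (hs : IsTranscendenceBasis k ((↑) : s → L))
    (hsep : Algebra.IsSeparable (IntermediateField.adjoin k (s : Set L)) L) :
    ∃ (n : ℕ) (v : Fin (n + 1) → L) (g : MvPolynomial (Fin (n + 1)) k), g ≠ 0 ∧
      RingHom.ker (MvPolynomial.aeval (R := k) v) = Ideal.span {g} ∧
      ∀ x : L, ∃ p q : MvPolynomial (Fin (n + 1)) k, MvPolynomial.aeval v q ≠ 0 ∧
        x * MvPolynomial.aeval v q = MvPolynomial.aeval v p := by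
  classical
  set F := IntermediateField.adjoin k (s : Set L) with hF
  haveI : Algebra.EssFiniteType F L := Algebra.EssFiniteType.of_comp k F L
  haveI := hsep
  haveI : FiniteDimensional F L := Algebra.finite_of_essFiniteType_of_isAlgebraic
  obtain ⟨θ, hθ⟩ := Field.exists_primitive_element F L
  let w : Fin s.card → L := fun i => (s.equivFin.symm i : L)
  have hw : IsTranscendenceBasis k w := hs.comp_equiv s.equivFin.symm
  let v : Fin (s.card + 1) → L := Fin.cons θ w
  have hadj : IntermediateField.adjoin k (Set.range v) = ⊤ := by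
    rw [Fin.range_cons, show Set.range w = (s : Set L) from ?_, Set.insert_eq, Set.union_comm,
      ← IntermediateField.adjoin_adjoin_left, hθ, IntermediateField.restrictScalars_top]
    exact Set.ext fun x => ⟨fun ⟨i, hi⟩ => hi ▸ (s.equivFin.symm i).2,
      fun hx => ⟨s.equivFin ⟨x, hx⟩, by simp [w]⟩⟩
  have hdep : ¬ AlgebraicIndependent k v := fun hv => by
    have h2 := hw.to_subtype_range
    have hsub : Set.range w ⊆ Set.range v := by
      rintro _ ⟨i, rfl⟩
      exact ⟨i.succ, by simp [v]⟩
    have := h2.2 (Set.range v) hv.to_subtype_range (by simpa [Set.range] using hsub)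
    have hmem : θ ∈ Set.range w := by
      have h3 : Set.range w = Set.range v := by simpa [Set.range] using this
      exact h3 ▸ ⟨0, by simp [v]⟩
    obtain ⟨i, hi⟩ := hmem
    exact Fin.succ_ne_zero i (hv.injective (show v i.succ = v 0 by simpa [v] using hi))
  obtain ⟨f, hf0, hf⟩ : ∃ f : MvPolynomial (Fin (s.card + 1)) k, f ≠ 0 ∧ MvPolynomial.aeval v f = 0 := by
    by_contra h
    push Not at h
    exact hdep (algebraicIndependent_iff.2 fun p hp => by_contra fun hp0 => h p hp0 hp)
  let R := MvPolynomial (Fin s.card) k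
  letI : Algebra R L := (MvPolynomial.aeval w).toRingHom.toAlgebra
  haveI : IsScalarTower k R L := .of_algebraMap_eq fun c => ((MvPolynomial.aeval w).commutes c).symm
  let e := MvPolynomial.finSuccEquiv k s.card
  have he : (MvPolynomial.aeval v : MvPolynomial (Fin (s.card + 1)) k →ₐ[k] L) =
      ((Polynomial.aeval (R := R) θ).restrictScalars k).comp e.toAlgHom := by
    refine MvPolynomial.algHom_ext fun i => ?_
    refine Fin.cases ?_ (fun j => ?_) i
    · simp [v, e, MvPolynomial.finSuccEquiv_X_zero]
    · show MvPolynomial.aeval v (MvPolynomial.X j.succ) = Polynomial.aeval (R := R) θ (e (MvPolynomial.X j.succ))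
      simp only [e, MvPolynomial.finSuccEquiv_X_succ, MvPolynomial.aeval_X, Polynomial.aeval_C]
      simp only [v, Fin.cons_succ]
      exact (MvPolynomial.aeval_X w j).symm
  obtain ⟨g', hg', hker⟩ := exists_eq_span_of_prime (R := R) hw.1 θ (f := e f)
    (fun h => hf0 (e.injective (h.trans (map_zero e).symm)))
    (by have := AlgHom.congr_fun he f; rw [hf] at this; exact this.symm)
  refine ⟨s.card, v, e.symm g', fun h => hg' (e.symm.injective (h.trans (map_zero e.symm).symm)), ?_, fun x => ?_⟩
  · ext p
    rw [RingHom.mem_ker, Ideal.mem_span_singleton, AlgHom.congr_fun he p]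
    show Polynomial.aeval (R := R) θ (e p) = 0 ↔ _
    rw [← RingHom.mem_ker, hker, Ideal.mem_span_singleton, ← map_dvd_iff e, AlgEquiv.apply_symm_apply]
  · have hx : x ∈ IntermediateField.adjoin k (Set.range v) := hadj ▸ IntermediateField.mem_top
    obtain ⟨p, q, rfl⟩ := (IntermediateField.mem_adjoin_range_iff k v x).1 hx
    by_cases hq : MvPolynomial.aeval v q = 0
    · exact ⟨0, 1, by simp, by simp [hq]⟩
    · exact ⟨p, q, hq, div_mul_cancel₀ _ hq⟩

/-- The local ring of affine space at the hypersurface. -/
theorem exists_dvr_model {L : Type u} [Field L] [Algebra k L] {n : ℕ} (v : Fin (n + 1) → L)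
    (g : MvPolynomial (Fin (n + 1)) k) (hg : g ≠ 0)
    (hker : RingHom.ker (MvPolynomial.aeval (R := k) v) = Ideal.span {g})
    (hgen : ∀ x : L, ∃ p q : MvPolynomial (Fin (n + 1)) k, MvPolynomial.aeval v q ≠ 0 ∧
        x * MvPolynomial.aeval v q = MvPolynomial.aeval v p) :
    ∃ (A : Type u) (_ : CommRing A) (_ : IsDomain A) (_ : IsDiscreteValuationRing A) (_ : Algebra k A)
      (ι : MvPolynomial (Fin (n + 1)) k →ₐ[k] A) (e : IsLocalRing.ResidueField A →+* L),
      Function.Bijective e ∧ (∀ p, e (IsLocalRing.residue A (ι p)) = MvPolynomial.aeval v p) ∧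
      Function.Injective ι ∧
      ∀ a : A, ∃ p q, MvPolynomial.aeval v q ≠ 0 ∧ a * ι q = ι p := by
  classical
  let P := MvPolynomial (Fin (n + 1)) k
  let ρ : P →ₐ[k] L := MvPolynomial.aeval v
  set Q := RingHom.ker ρ with hQ
  haveI : Q.IsPrime := RingHom.ker_isPrime _
  let A := Localization.AtPrime Q
  haveI : IsNoetherianRing A := IsLocalization.isNoetherianRing Q.primeCompl _ inferInstance
  have hle : Q.primeCompl ≤ nonZeroDivisors P := Q.primeCompl_le_nonZeroDivisors
  have hinj : Function.Injective (algebraMap P A) := IsLocalization.injective A hle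
  have hg0 : ρ g = 0 := by
    have : g ∈ RingHom.ker (MvPolynomial.aeval (R := k) v) := by
      show g ∈ Q; rw [hker]; exact Ideal.mem_span_singleton_self g
    exact this
  have hmax : IsLocalRing.maximalIdeal A = Ideal.span {algebraMap P A g} := by
    refine (Localization.AtPrime.map_eq_maximalIdeal (I := Q)).symm.trans ?_
    refine (congrArg (Ideal.map (algebraMap P A)) (hker : Q = Ideal.span {g})).trans ?_
    rw [Ideal.map_span, Set.image_singleton]
  have hnf : ¬ IsField A := fun h => by
    rw [IsLocalRing.isField_iff_maximalIdeal_eq, hmax, Ideal.span_singleton_eq_bot,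
      map_eq_zero_iff _ hinj] at h
    exact hg h
  haveI : IsDiscreteValuationRing A := by
    have h1 : (IsLocalRing.maximalIdeal A).IsPrincipal := ⟨⟨algebraMap P A g, hmax⟩⟩
    haveI : IsPrincipalIdealRing A :=
      ((tfae_of_isNoetherianRing_of_isLocalRing_of_isDomain A).out 4 0).1 h1
    exact IsDiscreteValuationRing.mk (fun h => hnf (IsLocalRing.isField_iff_maximalIdeal_eq.2 h))
  let θ : A →+* L := IsLocalization.lift (M := Q.primeCompl) (g := (ρ : P →+* L))
    fun q => Ne.isUnit fun h => q.2 h
  have hθ : ∀ p, θ (algebraMap P A p) = ρ p := fun p => IsLocalization.lift_eq _ p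
  have hθm : ∀ a ∈ IsLocalRing.maximalIdeal A, θ a = 0 := fun a ha => by
    rw [hmax] at ha
    obtain ⟨c, rfl⟩ := Ideal.mem_span_singleton'.1 ha
    rw [map_mul, hθ, hg0, mul_zero]
  let e : IsLocalRing.ResidueField A →+* L := Ideal.Quotient.lift (IsLocalRing.maximalIdeal A) θ hθm
  have he : ∀ a, e (IsLocalRing.residue A a) = θ a := fun a => Ideal.Quotient.lift_mk _ _ _
  refine ⟨A, inferInstance, inferInstance, inferInstance, inferInstance,
    IsScalarTower.toAlgHom k P A, e, ⟨e.injective, fun x => ?_⟩, fun p => (he _).trans (hθ p),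
    hinj, fun a => ?_⟩
  · obtain ⟨p, q, hq, hpq⟩ := hgen x
    refine ⟨IsLocalRing.residue A (IsLocalization.mk' A p (⟨q, hq⟩ : Q.primeCompl)), ?_⟩
    rw [he]
    refine mul_right_cancel₀ hq ?_
    rw [hpq]
    show θ _ * ρ q = ρ p
    rw [← hθ q, ← map_mul, IsLocalization.mk'_spec' A p (⟨q, hq⟩ : Q.primeCompl) |> fun h => (mul_comm _ _).trans h, hθ]
  · obtain ⟨p, q, rfl⟩ := IsLocalization.exists_mk'_eq Q.primeCompl a
    exact ⟨p, q, fun h => q.2 h, IsLocalization.mk'_spec A p q⟩

end Groth.Misc15.RetractDvr
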