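import Groth.Agent.Misc15.RetractDvr.Coord
import Groth.Agent.Misc15.RetractDvr.Hypersurface

/-!
A torus all of whose reduction maps over discrete valuation rings are surjective is retract rational.
-/

set_option autoImplicit false
set_option linter.style.haveILetI false

universe u

open CategoryTheory MonoidalCategory CartesianMonoidalCategory MonObj AlgebraicGeometry TensorProduct
open Groth.Misc15.TorusDvr Groth.Misc15.RetractLift

noncomputable section

namespace Groth.Misc15.RetractDvr

/-- Ring maps between localisations making a piece of a domain a retract of a piece of affine space. -/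
theorem exists_retraction {k O L A : Type u} [Field k] [CommRing O] [IsDomain O] [Algebra k O]
    [Algebra.FiniteType k O] [Field L] [Algebra k L] [Algebra O L] [IsScalarTower k O L] [IsFractionRing O L]
    [CommRing A] [Algebra k A] {m : ℕ} (v : Fin m → L) (jP : MvPolynomial (Fin m) k →ₐ[k] A)
    (hι : Function.Injective jP) (e : A →+* L) (he : ∀ p, e (jP p) = MvPolynomial.aeval v p)
    (hA : ∀ a : A, ∃ p q, MvPolynomial.aeval v q ≠ 0 ∧ a * jP q = jP p)
    (φ : O →ₐ[k] A) (hφ : ∀ o, e (φ o) = algebraMap O L o) :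
    ∃ (δ : O) (Q : MvPolynomial (Fin m) k) (a : Localization.Away Q →ₐ[k] Localization.Away δ)
      (b : Localization.Away δ →ₐ[k] Localization.Away Q), δ ≠ 0 ∧ a.comp b = AlgHom.id k _ := by
  classical
  set P := MvPolynomial (Fin m) k
  let ρ : P →ₐ[k] L := MvPolynomial.aeval v
  obtain ⟨gens, hgens⟩ := (Algebra.FiniteType.out (R := k) (A := O) : (⊤ : Subalgebra k O).FG)
  choose p q hq hpq using fun o : gens => hA (φ o)
  let Q1 : P := ∏ o, q o
  have hQ1 : ρ Q1 ≠ 0 := by
    show ρ (∏ o, q o) ≠ 0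
    rw [map_prod]
    exact Finset.prod_ne_zero_iff.2 fun o _ => hq o
  -- the lift has denominators dividing powers of `Q1`
  have hφ' : ∀ o : O, ∃ (N : ℕ) (r : P), φ o * jP Q1 ^ N = jP r := by
    intro o
    have ho : o ∈ Algebra.adjoin k (gens : Set O) := hgens ▸ Algebra.mem_top
    induction ho using Algebra.adjoin_induction with
    | mem x hx =>
      refine ⟨1, p ⟨x, hx⟩ * ∏ y ∈ Finset.univ.erase ⟨x, hx⟩, q y, ?_⟩
      rw [pow_one, map_mul, ← hpq ⟨x, hx⟩, _root_.mul_assoc, ← map_mul,
        Finset.mul_prod_erase _ q (Finset.mem_univ _)]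
    | algebraMap r => exact ⟨0, algebraMap k P r, by rw [pow_zero, _root_.mul_one, φ.commutes, jP.commutes]⟩
    | add x y _ _ hx hy =>
      obtain ⟨N, r, h⟩ := hx
      obtain ⟨N', r', h'⟩ := hy
      refine ⟨N + N', r * Q1 ^ N' + r' * Q1 ^ N, ?_⟩
      simp only [map_add, map_mul, map_pow, ← h, ← h']
      ring
    | mul x y _ _ hx hy =>
      obtain ⟨N, r, h⟩ := hx
      obtain ⟨N', r', h'⟩ := hy
      refine ⟨N + N', r * r', ?_⟩
      simp only [map_mul, ← h, ← h']
      ring
  -- the open of the torus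
  obtain ⟨d, hd⟩ := IsLocalization.exist_integer_multiples_of_finite (nonZeroDivisors O)
    (Sum.elim v fun _ : Unit => ρ Q1)
  choose c hc using hd
  have hd0 : algebraMap O L d ≠ 0 := IsLocalization.to_map_ne_zero_of_mem_nonZeroDivisors L le_rfl d.2
  have hc' : ∀ i, algebraMap O L (c i) = algebraMap O L d * Sum.elim v (fun _ : Unit => ρ Q1) i := fun i => by
    rw [hc i, ← Algebra.smul_def]
  set δ : O := d * c (Sum.inr ()) with hδdef
  have hδ : algebraMap O L δ = algebraMap O L d * (algebraMap O L d * ρ Q1) := by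
    rw [hδdef, map_mul, hc']
    rfl
  have hδ0 : δ ≠ 0 := fun h => mul_ne_zero hd0 (mul_ne_zero hd0 hQ1) (by rw [← hδ, h, map_zero])
  obtain ⟨N, r, hr⟩ := hφ' δ
  have hρr : ρ r = algebraMap O L δ * ρ Q1 ^ N := by
    show MvPolynomial.aeval v r = algebraMap O L δ * MvPolynomial.aeval v Q1 ^ N
    rw [← he r, ← hr, map_mul, map_pow, hφ, he]
  set Q : P := Q1 * r with hQdef
  have hρQ : ρ Q ≠ 0 := by
    rw [hQdef, map_mul, hρr]
    exact mul_ne_zero hQ1 (mul_ne_zero ((map_ne_zero_iff _ (IsFractionRing.injective O L)).2 hδ0)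
      (pow_ne_zero _ hQ1))
  let Oδ := Localization.Away δ
  let PQ := Localization.Away Q
  have hδle : Submonoid.powers δ ≤ nonZeroDivisors O :=
    powers_le_nonZeroDivisors_of_noZeroDivisors hδ0
  let iO : Oδ →ₐ[k] L := IsLocalization.liftAlgHom (M := Submonoid.powers δ) (f := IsScalarTower.toAlgHom k O L)
    fun y => Ne.isUnit ((map_ne_zero_iff _ (IsFractionRing.injective O L)).2
      (nonZeroDivisors.ne_zero (hδle y.2)))
  have hiO : ∀ o, iO (algebraMap O Oδ o) = algebraMap O L o := fun o => by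
    simp [iO, IsLocalization.coe_liftAlgHom, IsLocalization.lift_eq]
  have hiOinj : Function.Injective iO := by
    intro x y h
    obtain ⟨⟨x₁, x₂⟩, hx⟩ := IsLocalization.surj (Submonoid.powers δ) x
    obtain ⟨⟨y₁, y₂⟩, hy⟩ := IsLocalization.surj (Submonoid.powers δ) y
    have hx' := congrArg iO hx
    have hy' := congrArg iO hy
    rw [map_mul, hiO, hiO] at hx' hy'
    have h1 : x₁ * y₂ = y₁ * x₂ := IsFractionRing.injective O L (by
      rw [map_mul, map_mul, ← hx', ← hy', h]
      ring)
    refine ((IsLocalization.map_units Oδ x₂).mul (IsLocalization.map_units Oδ y₂)).mul_right_cancel ?_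
    rw [← _root_.mul_assoc, hx, mul_comm (algebraMap O Oδ (x₂ : O)), ← _root_.mul_assoc, hy, ← map_mul, ← map_mul, h1]
  -- `v` and the inverse of `ρ Q` live in the open
  have hunitd : IsUnit (algebraMap O Oδ d) := isUnit_of_mul_isUnit_left (y := algebraMap O Oδ (c (Sum.inr ())))
    (by rw [← map_mul]; exact IsLocalization.Away.algebraMap_isUnit δ)
  let v' : Fin m → Oδ := fun i => algebraMap O Oδ (c (Sum.inl i)) * ↑hunitd.unit⁻¹
  have hv' : ∀ i, iO (v' i) = v i := fun i => by
    refine mul_right_cancel₀ hd0 ?_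
    rw [← hiO d, ← map_mul, _root_.mul_assoc, IsUnit.val_inv_mul, _root_.mul_one, hiO, hiO, hc', mul_comm]
    rfl
  let a₀ : P →ₐ[k] Oδ := MvPolynomial.aeval v'
  have ha₀ : ∀ x, iO (a₀ x) = ρ x := fun x => by
    rw [← AlgHom.comp_apply]
    congr 1
    exact MvPolynomial.algHom_ext fun i => by simp [a₀, ρ, hv']
  have hQ1u : IsUnit (a₀ Q1) := by
    have h1 : algebraMap O Oδ δ = algebraMap O Oδ d * (algebraMap O Oδ d * a₀ Q1) := hiOinj (by
      rw [hiO, hδ, map_mul, map_mul, hiO, ha₀])
    exact isUnit_of_mul_isUnit_right (isUnit_of_mul_isUnit_right (h1 ▸ IsLocalization.Away.algebraMap_isUnit δ))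
  have hru : IsUnit (a₀ r) := by
    rw [show a₀ r = algebraMap O Oδ δ * a₀ Q1 ^ N from hiOinj (by rw [map_mul, map_pow, hiO, ha₀, ha₀, hρr])]
    exact (IsLocalization.Away.algebraMap_isUnit δ).mul (hQ1u.pow N)
  have hQu : ∀ y : Submonoid.powers Q, IsUnit (a₀ (y : P)) := by
    rintro ⟨_, i, rfl⟩
    simp only [map_pow, hQdef, map_mul]
    exact (hQ1u.mul hru).pow i
  let a : PQ →ₐ[k] Oδ := IsLocalization.liftAlgHom (M := Submonoid.powers Q) (f := a₀) hQu
  have hQle : Submonoid.powers Q ≤ nonZeroDivisors P :=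
    powers_le_nonZeroDivisors_of_noZeroDivisors fun h => hρQ (by rw [h, map_zero])
  have hQ1P : IsUnit (algebraMap P PQ Q1) := isUnit_of_mul_isUnit_left (y := algebraMap P PQ r)
    (by rw [← map_mul]; exact IsLocalization.Away.algebraMap_isUnit Q)
  have hrP : IsUnit (algebraMap P PQ r) := isUnit_of_mul_isUnit_right (x := algebraMap P PQ Q1)
    (by rw [← map_mul]; exact IsLocalization.Away.algebraMap_isUnit Q)
  choose Nn rr hrr using hφ'
  -- the value of the lift in the open of affine space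
  have hwd : ∀ (o : O) (M : ℕ) (s : P), φ o * jP Q1 ^ M = jP s →
      algebraMap P PQ (rr o) * algebraMap P PQ Q1 ^ M = algebraMap P PQ s * algebraMap P PQ Q1 ^ Nn o := by
    intro o M s h
    rw [← map_pow, ← map_pow, ← map_mul, ← map_mul]
    congr 1
    apply hι
    rw [map_mul, map_mul, map_pow, map_pow, ← h, ← hrr o]
    ring
  let β : O → PQ := fun o => algebraMap P PQ (rr o) * ↑(hQ1P.unit⁻¹) ^ Nn o
  have hβ : ∀ (o : O) (M : ℕ) (s : P), φ o * jP Q1 ^ M = jP s →
      β o * algebraMap P PQ Q1 ^ M = algebraMap P PQ s := by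
    intro o M s h
    rw [show β o * algebraMap P PQ Q1 ^ M =
      (algebraMap P PQ (rr o) * algebraMap P PQ Q1 ^ M) * ↑(hQ1P.unit⁻¹) ^ Nn o by simp only [β]; ring,
      hwd o M s h, _root_.mul_assoc, ← mul_pow, IsUnit.mul_val_inv, one_pow, _root_.mul_one]
  have hβeq : ∀ (o : O) (z : PQ) (M : ℕ) (s : P), φ o * jP Q1 ^ M = jP s →
      z * algebraMap P PQ Q1 ^ M = algebraMap P PQ s → z = β o := fun o z M s h hz =>
    (hQ1P.pow M).mul_right_cancel (hz.trans (hβ o M s h).symm)
  let b₀ : O →ₐ[k] PQ :=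
    { toFun := β
      map_one' := (hβeq 1 1 0 1 (by simp) (by simp)).symm
      map_mul' := fun x y => (hβeq (x * y) _ (Nn x + Nn y) (rr x * rr y)
        (by rw [map_mul, map_mul, ← hrr x, ← hrr y]; ring)
        (by rw [map_mul, ← hβ x _ _ (hrr x), ← hβ y _ _ (hrr y)]; ring)).symm
      map_zero' := (hβeq 0 0 0 0 (by simp) (by simp)).symm
      map_add' := fun x y => (hβeq (x + y) _ (Nn x + Nn y) (rr x * Q1 ^ Nn y + rr y * Q1 ^ Nn x)
        (by simp only [map_add, map_mul, map_pow, ← hrr x, ← hrr y]; ring)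
        (by simp only [map_add, map_mul, map_pow, ← hβ x _ _ (hrr x), ← hβ y _ _ (hrr y)]; ring)).symm
      commutes' := fun x => (hβeq _ (algebraMap k PQ x) 0 (algebraMap k P x)
        (by rw [pow_zero, _root_.mul_one, φ.commutes, jP.commutes])
        (by rw [pow_zero, _root_.mul_one, ← IsScalarTower.algebraMap_apply])).symm }
  have hb₀u : ∀ y : Submonoid.powers δ, IsUnit (b₀ (y : O)) := by
    rintro ⟨_, i, rfl⟩
    simp only [map_pow]
    refine IsUnit.pow i (isUnit_of_mul_isUnit_left (y := algebraMap P PQ Q1 ^ N) ?_)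
    show IsUnit (β δ * _)
    rw [hβ δ N r hr]
    exact hrP
  let b : Oδ →ₐ[k] PQ := IsLocalization.liftAlgHom (M := Submonoid.powers δ) (f := b₀) hb₀u
  refine ⟨δ, Q, a, b, hδ0, IsLocalization.algHom_ext (Submonoid.powers δ) (AlgHom.ext fun o => hiOinj ?_)⟩
  show iO (a (b (algebraMap O Oδ o))) = iO (algebraMap O Oδ o)
  rw [show b (algebraMap O Oδ o) = β o by simp [b, IsLocalization.coe_liftAlgHom, IsLocalization.lift_eq]; rfl, hiO]
  have h1 := congrArg (fun z => iO (a z)) (hβ o _ _ (hrr o))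
  have haP : ∀ x, iO (a (algebraMap P PQ x)) = ρ x := fun x => by
    rw [show a (algebraMap P PQ x) = a₀ x by simp [a, IsLocalization.coe_liftAlgHom, IsLocalization.lift_eq], ha₀]
  simp only [map_mul, map_pow, haP] at h1
  refine mul_right_cancel₀ (pow_ne_zero (Nn o) hQ1) (h1.trans ?_)
  show MvPolynomial.aeval v (rr o) = algebraMap O L o * MvPolynomial.aeval v Q1 ^ Nn o
  rw [← he (rr o), ← hrr o, map_mul, map_pow, hφ, he]

variable {k : Type u} [Field k] {T : Over (Spec (CommRingCat.of k))} [GrpObj T] [IsAffine T.left]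
  {E : Type u} [Field E] [Algebra k E] [FiniteDimensional k E] [IsGalois k E]
  (τ : Groth.Reductive.MTInt.Triv T (sp (algebraMap k E))) {r : ℕ} (eM : τ.M ≃+ (Fin r → ℤ))

include τ eM in
theorem exists_retract
    (h : ∀ (A : Type u) [CommRing A] [IsDomain A] [IsDiscreteValuationRing A] [Algebra k A]
        (u : Spec (CommRingCat.of (IsLocalRing.ResidueField A)) ⟶ T.left),
        u ≫ T.hom = Spec.map (CommRingCat.ofHom ((IsLocalRing.residue A).comp (algebraMap k A))) →
        ∃ s : Spec (CommRingCat.of A) ⟶ T.left, s ≫ T.hom = Spec.map (CommRingCat.ofHom (algebraMap k A)) ∧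
          Spec.map (CommRingCat.ofHom (IsLocalRing.residue A)) ≫ s = u) :
    ∃ (U : T.left.Opens) (n : ℕ) (Y : (Spec (CommRingCat.of (MvPolynomial (Fin n) k))).Opens)
        (a : (U : Scheme.{u}) ⟶ (Y : Scheme.{u})) (b : (Y : Scheme.{u}) ⟶ (U : Scheme.{u})),
        (U : Set T.left).Nonempty ∧ a ≫ b = 𝟙 (U : Scheme.{u}) ∧
        a ≫ Y.ι ≫ Spec.map (CommRingCat.ofHom (algebraMap k (MvPolynomial (Fin n) k))) = U.ι ≫ T.hom ∧
        b ≫ U.ι ≫ T.hom = Y.ι ≫ Spec.map (CommRingCat.ofHom (algebraMap k (MvPolynomial (Fin n) k))) := by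
  classical
  letI : Algebra k Γ(T.left, ⊤) := (strHom (T := T)).toAlgebra
  obtain ⟨eC, hl, hr⟩ := exists_coord_equiv τ (rfl : algebraMap k Γ(T.left, ⊤) = strHom)
  haveI : TwoUniqueSums τ.M := (AddEquiv.twoUniqueSums_iff eM).2 inferInstance
  have hjinj : Function.Injective (ptHom (univPt τ)) := by
    intro o o' hoo
    rw [← hr, ← hr] at hoo
    exact Algebra.TensorProduct.includeRight_injective (algebraMap k E).injective (eC.injective hoo)
  let G := Multiplicative τ.M
  haveI : IsDomain Γ(T.left, ⊤) := Function.Injective.isDomain _ hjinj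
  let jO : Γ(T.left, ⊤) →ₐ[k] MonoidAlgebra E G := AlgHom.mk (ptHom (univPt τ)) fun c => by
    show ptHom (univPt τ) (strHom c) = _
    rw [← RingHom.comp_apply, ptHom_strHom]
    simp [const, MonoidAlgebra.coe_algebraMap]
  haveI hft : Algebra.FiniteType k Γ(T.left, ⊤) := by
    haveI : Module.Finite ℤ τ.M := Module.Finite.equiv eM.toIntLinearEquiv.symm
    haveI : AddGroup.FG τ.M := Module.Finite.iff_addGroup_fg.1 inferInstance
    haveI : Group.FG G := AddGroup.fg_iff_mul_fg.1 inferInstance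
    haveI : Monoid.FG G := Group.fg_iff_monoid_fg.1 inferInstance
    let eA : E ⊗[k] Γ(T.left, ⊤) ≃ₐ[E] MonoidAlgebra E G := AlgEquiv.ofRingEquiv (f := eC) fun a => by
      show eC (a ⊗ₜ 1) = _
      exact (hl a).trans (by simp [const, MonoidAlgebra.coe_algebraMap])
    haveI : Algebra.FiniteType E (E ⊗[k] Γ(T.left, ⊤)) :=
      Algebra.FiniteType.equiv (inferInstance : Algebra.FiniteType E (MonoidAlgebra E G)) eA.symm
    exact Algebra.FiniteType.of_finiteType_tensorProduct_of_faithfullyFlat E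
  have hG : ∀ p : ℕ, p.Prime → Function.Injective fun m : G => m ^ p := fun p hp m m' hm => by
    have h1 : eM (p • m.toAdd) = eM (p • m'.toAdd) := congrArg (fun z : G => eM z.toAdd) hm
    rw [map_nsmul, map_nsmul] at h1
    refine Multiplicative.toAdd.injective (eM.injective (funext fun i => ?_))
    have h2 := congrFun h1 i
    simp only [Pi.smul_apply, smul_eq_mul, nsmul_eq_mul] at h2
    exact mul_left_cancel₀ (by exact_mod_cast hp.ne_zero) h2
  let L := FractionRing Γ(T.left, ⊤)
  haveI : Algebra.EssFiniteType k L := by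
    haveI : Algebra.EssFiniteType Γ(T.left, ⊤) L := Algebra.EssFiniteType.of_isLocalization L (nonZeroDivisors _)
    exact Algebra.EssFiniteType.comp k Γ(T.left, ⊤) L
  obtain ⟨s, hs, hsep⟩ := exists_sepBasis (O := Γ(T.left, ⊤)) (L := L) hG jO (fun a b h => hjinj h)
  obtain ⟨n, v, g, hg, hker, hgen⟩ := exists_model s hs hsep
  obtain ⟨A, _, _, _, _, jP, e, he, hev, hι, hA⟩ := exists_dvr_model v g hg hker hgen
  -- lift the generic point
  let eR : IsLocalRing.ResidueField A ≃+* L := RingEquiv.ofBijective e he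
  let cres := (IsLocalRing.residue A).comp (algebraMap k A)
  have hec : ∀ c, eR (cres c) = algebraMap k L c := fun c => by
    show e (IsLocalRing.residue A (algebraMap k A c)) = _
    rw [← jP.commutes, hev, AlgHom.commutes]
  obtain ⟨ug, hug⟩ := exists_pt (T := T) (c := cres)
    ((eR.symm : L →+* IsLocalRing.ResidueField A).comp (algebraMap Γ(T.left, ⊤) L)) (RingHom.ext fun c => by
      apply eR.injective
      rw [hec]
      show eR (eR.symm (algebraMap Γ(T.left, ⊤) L (algebraMap k Γ(T.left, ⊤) c))) = _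
      rw [RingEquiv.apply_symm_apply, ← IsScalarTower.algebraMap_apply])
  obtain ⟨sA, hsA, hsres⟩ := h A ug.left (Over.w ug)
  let xA : sp (algebraMap k A) ⟶ T := Over.homMk sA hsA
  have hxA : spMap (IsLocalRing.residue A) _ cres rfl ≫ xA = ug := Over.OverMorphism.ext hsres
  let φ : Γ(T.left, ⊤) →ₐ[k] A := AlgHom.mk (ptHom xA) fun c => RingHom.congr_fun (ptHom_strHom xA) c
  obtain ⟨δ, Q, a, b, hδ, hab⟩ := exists_retraction (O := Γ(T.left, ⊤)) (L := L) v jP hι
    (e.comp (IsLocalRing.residue A)) hev hA φ fun o => by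
      have h1 := RingHom.congr_fun (ptHom_spMap (IsLocalRing.residue A) (c := algebraMap k A) (c' := cres) rfl xA) o
      rw [hxA, hug] at h1
      show e (IsLocalRing.residue A (ptHom xA o)) = _
      rw [← RingHom.comp_apply (IsLocalRing.residue A), ← h1]
      exact eR.apply_symm_apply _
  -- schemes
  let P := MvPolynomial (Fin (n + 1)) k
  let jT : Spec (CommRingCat.of (Localization.Away δ)) ⟶ T.left :=
    Spec.map (CommRingCat.ofHom (algebraMap Γ(T.left, ⊤) (Localization.Away δ))) ≫ T.left.isoSpec.inv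
  let jY : Spec (CommRingCat.of (Localization.Away Q)) ⟶ Spec (CommRingCat.of P) :=
    Spec.map (CommRingCat.ofHom (algebraMap P (Localization.Away Q)))
  haveI : IsOpenImmersion (Spec.map (CommRingCat.ofHom (algebraMap Γ(T.left, ⊤) (Localization.Away δ)))) :=
    IsOpenImmersion.of_isLocalization δ
  haveI : IsOpenImmersion jY := IsOpenImmersion.of_isLocalization Q
  let iU := jT.isoOpensRange
  let iY := jY.isoOpensRange
  have hT' : T.left.isoSpec.inv ≫ T.hom = Spec.map (CommRingCat.ofHom (strHom (T := T))) := by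
    rw [strHom, CommRingCat.ofHom_hom, Spec.map_preimage]
  have hU : jT ≫ T.hom = Spec.map (CommRingCat.ofHom (algebraMap k (Localization.Away δ))) := by
    simp only [jT]
    rw [Category.assoc, hT', ← Spec.map_comp]
    congr 1
  have hY : jY ≫ Spec.map (CommRingCat.ofHom (algebraMap k P)) =
      Spec.map (CommRingCat.ofHom (algebraMap k (Localization.Away Q))) := by
    simp only [jY]
    rw [← Spec.map_comp]
    congr 1
  refine ⟨jT.opensRange, n + 1, jY.opensRange, iU.inv ≫ Spec.map (CommRingCat.ofHom (a : _ →+* _)) ≫ iY.hom,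
    iY.inv ≫ Spec.map (CommRingCat.ofHom (b : _ →+* _)) ≫ iU.hom, ?_, ?_, ?_, ?_⟩
  · haveI : Nontrivial (Localization.Away δ) :=
      (IsLocalization.injective (Localization.Away δ) (powers_le_nonZeroDivisors_of_noZeroDivisors hδ : Submonoid.powers δ ≤ _)).nontrivial
    obtain ⟨x⟩ : Nonempty (PrimeSpectrum (Localization.Away δ)) := inferInstance
    exact ⟨jT.base x, x, rfl⟩
  · simp only [Category.assoc, Iso.hom_inv_id_assoc]
    rw [← Spec.map_comp_assoc, ← CommRingCat.ofHom_comp,
      show (a : Localization.Away Q →+* Localization.Away δ).comp (b : Localization.Away δ →+* Localization.Away Q) =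
        RingHom.id (Localization.Away δ) from congrArg AlgHom.toRingHom hab, CommRingCat.ofHom_id, Spec.map_id, Category.id_comp, Iso.inv_hom_id]
  · simp only [Category.assoc, iY, Scheme.Hom.isoOpensRange_hom_ι_assoc]
    rw [hY, ← Spec.map_comp, ← CommRingCat.ofHom_comp, AlgHom.comp_algebraMap, ← hU]
    simp [iU]
  · simp only [Category.assoc, iU, Scheme.Hom.isoOpensRange_hom_ι_assoc]
    rw [hU, ← Spec.map_comp, ← CommRingCat.ofHom_comp, AlgHom.comp_algebraMap, ← hY]
    simp [iY]
    rfl

end Groth.Misc15.RetractDvr
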