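import Mathlib

/-!
Separably generated function fields and their hypersurface models.
-/

set_option autoImplicit false
set_option linter.style.haveILetI false

universe u

noncomputable section

namespace Groth.Misc15.RetractDvr

variable {k : Type u} [Field k]

/-- Frobenius preserves linear independence in a group algebra over a separable extension. -/
theorem linearIndependent_pow_monoidAlgebra {E : Type u} {G : Type*} [Field E] [Algebra k E] [Algebra.IsSeparable k E]
    [CommMonoid G] (p : ℕ) (hp : p.Prime) [CharP k p] (hG : Function.Injective fun m : G => m ^ p)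
    {ι : Type*} [Finite ι] (x : ι → MonoidAlgebra E G) (hx : LinearIndependent k x) :
    LinearIndependent k fun i => x i ^ p := by
  classical
  haveI := Fintype.ofFinite ι
  haveI : Fact p.Prime := ⟨hp⟩
  haveI : CharP E p := charP_of_injective_algebraMap (algebraMap k E).injective p
  haveI : CharP (MonoidAlgebra E G) p := charP_of_injective_algebraMap
    (show Function.Injective (algebraMap E (MonoidAlgebra E G)) from fun a b h => by
      rw [MonoidAlgebra.coe_algebraMap] at h
      simpa using h) p
  haveI : ExpChar k p := .prime hp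
  let b := Module.Basis.ofVectorSpace k E
  let W := ((Module.Basis.ofVectorSpaceIndex k E) × G)
  let Bs : Module.Basis W k (MonoidAlgebra E G) :=
    ((Finsupp.basis fun _ : G => b).map
      (MonoidAlgebra.coeffLinearEquiv k : MonoidAlgebra E G ≃ₗ[k] G →₀ E).symm).reindex
      ((Equiv.sigmaEquivProd G _).trans (Equiv.prodComm _ _))
  have hBs : ∀ w : W, Bs w = MonoidAlgebra.single w.2 (b w.1) := fun w => by
    simp [Bs, Finsupp.coe_basis]
    rfl
  -- the powers of the basis are independent
  have hpow : LinearIndependent k fun w : W => Bs w ^ p := by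
    have hb : LinearIndependent k fun j => b j ^ p := by
      have := b.linearIndependent.map_pow_expChar_pow_of_isSeparable p 1
      simpa using this
    have h2 := linearIndependent_iff'.1 hb
    refine linearIndependent_iff'.2 fun s c hc w hw => ?_
    have h3 := congrArg (fun z => z.coeff (w.2 ^ p)) hc
    simp only [MonoidAlgebra.coeff_sum, MonoidAlgebra.coeff_zero, Finsupp.zero_apply, hBs,
      MonoidAlgebra.single_pow, MonoidAlgebra.smul_single, MonoidAlgebra.coeff_single,
      Finsupp.finsetSum_apply, Finsupp.single_apply] at h3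
    rw [← Finset.sum_filter] at h3
    have h4 : ∑ j ∈ (s.filter fun v => v.2 ^ p = w.2 ^ p).image Prod.fst, c (j, w.2) • b j ^ p = 0 := by
      rw [Finset.sum_image]
      · rw [← h3]
        refine Finset.sum_congr rfl fun v hv => ?_
        have : v.2 = w.2 := hG (Finset.mem_filter.1 hv).2
        simp [← this]
      · intro v hv v' hv' h
        exact Prod.ext h ((hG (Finset.mem_filter.1 hv).2).trans (hG (Finset.mem_filter.1 hv').2).symm)
    have := h2 _ _ h4 w.1 (Finset.mem_image.2 ⟨w, Finset.mem_filter.2 ⟨hw, rfl⟩, rfl⟩)
    simpa using this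
  rw [Fintype.linearIndependent_iff]
  intro c hc i₀
  obtain ⟨L, hL⟩ := LinearMap.exists_leftInverse_of_injective (Fintype.linearCombination k x)
    (LinearMap.ker_eq_bot'.2 fun m hm => funext (Fintype.linearIndependent_iff.1 hx m
      (by simpa [Fintype.linearCombination_apply] using hm)))
  let φ : MonoidAlgebra E G →ₗ[k] k := (LinearMap.proj i₀).comp L
  have hφ : ∀ i, φ (x i) = if i = i₀ then 1 else 0 := fun i => by
    have h := congrFun (LinearMap.congr_fun hL (Pi.single i (1 : k))) i₀
    simpa [φ, Pi.single_apply, eq_comm] using h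
  let s : Finset W := Finset.univ.biUnion fun i => (Bs.repr (x i)).support
  have hxs : ∀ i, x i = ∑ w ∈ s, Bs.repr (x i) w • Bs w := fun i => by
    conv_lhs => rw [← Bs.linearCombination_repr (x i)]
    rw [Finsupp.linearCombination_apply]
    exact Finsupp.sum_of_support_subset _
      (Finset.subset_biUnion_of_mem (fun i => (Bs.repr (x i)).support) (Finset.mem_univ i)) _
      (fun _ _ => zero_smul k _)
  have hpw : ∀ i, x i ^ p = ∑ w ∈ s, Bs.repr (x i) w ^ p • Bs w ^ p := fun i => by
    conv_lhs => rw [hxs i]
    rw [sum_pow_char]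
    exact Finset.sum_congr rfl fun w _ => smul_pow _ _ _
  simp only [hpw, Finset.smul_sum, smul_smul] at hc
  rw [Finset.sum_comm] at hc
  simp only [← Finset.sum_smul] at hc
  have hz := linearIndependent_iff'.1 hpow s _ hc
  have hsum : ∑ w ∈ s, φ (Bs w) ^ p * ∑ i, c i * Bs.repr (x i) w ^ p = 0 :=
    Finset.sum_eq_zero fun w hw => by rw [hz w hw, mul_zero]
  have hval : ∀ i, ∑ w ∈ s, Bs.repr (x i) w * φ (Bs w) = if i = i₀ then 1 else 0 := fun i => by
    rw [← hφ i]
    conv_rhs => rw [hxs i, map_sum]
    simp [smul_eq_mul]
  have hfr : ∀ i, ∑ w ∈ s, Bs.repr (x i) w ^ p * φ (Bs w) ^ p = if i = i₀ then 1 else 0 := fun i => by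
    simp only [← mul_pow]
    rw [← sum_pow_char, hval i]
    split_ifs <;> simp [hp.ne_zero]
  simp only [Finset.mul_sum] at hsum
  rw [Finset.sum_comm] at hsum
  have h5 : ∀ i, ∑ w ∈ s, φ (Bs w) ^ p * (c i * Bs.repr (x i) w ^ p) = c i * if i = i₀ then 1 else 0 :=
    fun i => by
      rw [← hfr i, Finset.mul_sum]
      exact Finset.sum_congr rfl fun w _ => by ring
  simpa [h5] using hsum

open IntermediateField in
/-- A subfield of the fractions of a group algebra over a separable extension is separably generated. -/
theorem exists_sepBasis {O L E : Type u} {G : Type*} [CommRing O] [IsDomain O] [Algebra k O] [Algebra.FiniteType k O]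
    [Field L] [Algebra k L] [Algebra O L] [IsScalarTower k O L] [IsFractionRing O L]
    [Field E] [Algebra k E] [Algebra.IsSeparable k E] [CommMonoid G]
    (hG : ∀ p : ℕ, p.Prime → Function.Injective fun m : G => m ^ p)
    (j : O →ₐ[k] MonoidAlgebra E G) (hj : Function.Injective j) :
    ∃ s : Finset L, IsTranscendenceBasis k ((↑) : s → L) ∧
      Algebra.IsSeparable (IntermediateField.adjoin k (s : Set L)) L := by
  classical
  haveI : Algebra.EssFiniteType O L := Algebra.EssFiniteType.of_isLocalization L (nonZeroDivisors O)
  haveI : Algebra.EssFiniteType k L := Algebra.EssFiniteType.comp k O L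
  obtain _ | ⟨p, hp, hpk⟩ := CharP.exists' k
  · exact exists_isTranscendenceBasis_and_isSeparable_of_perfectField k L
  refine exists_isTranscendenceBasis_and_isSeparable_of_linearIndepOn_pow_of_essFiniteType
    p hp.out fun t ht => ?_
  haveI : CharP L p := charP_of_injective_algebraMap (algebraMap k L).injective p
  obtain ⟨d, hd⟩ := IsLocalization.exist_integer_multiples_of_finset (nonZeroDivisors O) t
  choose o ho using fun i : t => hd i i.2
  have hd0 : algebraMap O L d ≠ 0 := IsLocalization.to_map_ne_zero_of_mem_nonZeroDivisors L le_rfl d.2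
  let aO : O →ₐ[k] L := IsScalarTower.toAlgHom k O L
  let mulD : L →ₗ[k] L := LinearMap.mulLeft k (algebraMap O L d)
  have h1 : LinearIndependent k (aO.toLinearMap ∘ o) := by
    have : aO.toLinearMap ∘ o = mulD ∘ fun i : t => (i : L) := funext fun i => by
      show algebraMap O L (o i) = algebraMap O L d * (i : L)
      rw [ho i, ← Algebra.smul_def]
    rw [this]
    exact (show LinearIndependent k (fun i : t => (i : L)) from ht).map' mulD
      (LinearMap.ker_eq_bot.2 (mul_right_injective₀ hd0))
  have h2 : LinearIndependent k (j.toLinearMap ∘ o) :=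
    (h1.of_comp aO.toLinearMap).map' j.toLinearMap (LinearMap.ker_eq_bot.2 hj)
  have h3 := linearIndependent_pow_monoidAlgebra p hp.out (hG p hp.out) _ h2
  have h4 : LinearIndependent k fun i => o i ^ p := by
    refine LinearIndependent.of_comp j.toLinearMap ?_
    rw [show (j.toLinearMap ∘ fun i => o i ^ p) = fun i => (j.toLinearMap ∘ o) i ^ p from
      funext fun i => map_pow j (o i) p]
    exact h3
  have h5 := h4.map' aO.toLinearMap (LinearMap.ker_eq_bot.2 (IsFractionRing.injective O L))
  let mulI : L →ₗ[k] L := LinearMap.mulLeft k ((algebraMap O L d) ^ p)⁻¹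
  have h6 := h5.map' mulI (LinearMap.ker_eq_bot.2 (mul_right_injective₀ (inv_ne_zero (pow_ne_zero _ hd0))))
  show LinearIndependent k fun i : t => (i : L) ^ p
  suffices he : (fun i : t => (i : L) ^ p) = mulI ∘ aO.toLinearMap ∘ fun i => o i ^ p by
    rw [he]; exact h6
  funext i
  show (i : L) ^ p = ((algebraMap O L d) ^ p)⁻¹ * algebraMap O L (o i ^ p)
  rw [map_pow, ho i]
  show _ = _ * ((d : O) • (i : L)) ^ p
  rw [Algebra.smul_def, mul_pow, inv_mul_cancel_left₀ (pow_ne_zero _ hd0)]

end Groth.Misc15.RetractDvr
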